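import Cfsg.Agent.CosetCert.Fi22Chain1.CheckTable0

/-! Generated: kernel checks combined. -/

namespace Cfsg.Agent.CosetCert.Fi22Chain1

theorem coset_ok : ∀ i, i < 3159 → data.checkCoset i = true := by
  have h0 : ∀ i, i < 0 → data.checkCoset i = true := forall_lt_zero
  have h1 := forall_lt_step (b := 750) h0 coset_okAt0 rfl
  have h2 := forall_lt_step (b := 1500) h1 coset_okAt750 rfl
  have h3 := forall_lt_step (b := 2250) h2 coset_okAt1500 rfl
  have h4 := forall_lt_step (b := 3000) h3 coset_okAt2250 rfl
  have h5 := forall_lt_step (b := 3159) h4 coset_okAt3000 rfl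
  exact h5

end Cfsg.Agent.CosetCert.Fi22Chain1
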