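import Cfsg.Agent.CosetCert.Fi22Chain1.CheckLog0
import Cfsg.Agent.CosetCert.Fi22Chain1.CheckLog1

/-! Generated: kernel checks combined. -/

namespace Cfsg.Agent.CosetCert.Fi22Chain1

theorem log_ok : ∀ i, i < 27973 → data.checkLog i = true := by
  have h0 : ∀ i, i < 0 → data.checkLog i = true := forall_lt_zero
  have h1 := forall_lt_step (b := 2500) h0 log_okAt0 rfl
  have h2 := forall_lt_step (b := 5000) h1 log_okAt2500 rfl
  have h3 := forall_lt_step (b := 7500) h2 log_okAt5000 rfl
  have h4 := forall_lt_step (b := 10000) h3 log_okAt7500 rfl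
  have h5 := forall_lt_step (b := 12500) h4 log_okAt10000 rfl
  have h6 := forall_lt_step (b := 15000) h5 log_okAt12500 rfl
  have h7 := forall_lt_step (b := 17500) h6 log_okAt15000 rfl
  have h8 := forall_lt_step (b := 20000) h7 log_okAt17500 rfl
  have h9 := forall_lt_step (b := 22500) h8 log_okAt20000 rfl
  have h10 := forall_lt_step (b := 25000) h9 log_okAt22500 rfl
  have h11 := forall_lt_step (b := 27500) h10 log_okAt25000 rfl
  have h12 := forall_lt_step (b := 27973) h11 log_okAt27500 rfl
  exact h12

end Cfsg.Agent.CosetCert.Fi22Chain1
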