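import Cfsg.Agent.CosetCert.Fi22Chain1.Cert

/-! Generated: the full validity of the certificate. -/

set_option Elab.async false

namespace Cfsg.Agent.CosetCert.Fi22Chain1

theorem rels_okAt0 : allFrom data.checkRels 0 500 = true := by decide +kernel

theorem rels_okAt500 : allFrom data.checkRels 500 500 = true := by decide +kernel

theorem rels_okAt1000 : allFrom data.checkRels 1000 500 = true := by decide +kernel

theorem rels_okAt1500 : allFrom data.checkRels 1500 500 = true := by decide +kernel

theorem rels_okAt2000 : allFrom data.checkRels 2000 500 = true := by decide +kernel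

theorem rels_okAt2500 : allFrom data.checkRels 2500 500 = true := by decide +kernel

theorem rels_okAt3000 : allFrom data.checkRels 3000 159 = true := by decide +kernel

theorem rels_ok : ∀ i, i < 3159 → data.checkRels i = true := by
  have h0 : ∀ i, i < 0 → data.checkRels i = true := forall_lt_zero
  have h1 := forall_lt_step (b := 500) h0 rels_okAt0 rfl
  have h2 := forall_lt_step (b := 1000) h1 rels_okAt500 rfl
  have h3 := forall_lt_step (b := 1500) h2 rels_okAt1000 rfl
  have h4 := forall_lt_step (b := 2000) h3 rels_okAt1500 rfl
  have h5 := forall_lt_step (b := 2500) h4 rels_okAt2000 rfl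
  have h6 := forall_lt_step (b := 3000) h5 rels_okAt2500 rfl
  have h7 := forall_lt_step (b := 3159) h6 rels_okAt3000 rfl
  exact h7

theorem valid : data.Valid :=
  { n_pos := log_valid.n_pos
    root := log_valid.root
    log := log_valid.log
    coset := log_valid.coset
    iv_iv := log_valid.iv_iv
    iv_big := log_valid.iv_big
    pw := log_valid.pw
    letters := log_valid.letters
    K_small := log_valid.K_small
    nR_le := log_valid.nR_le
    rels := rels_ok
    powers_eq := by decide +kernel
    subs := by decide +kernel }

end Cfsg.Agent.CosetCert.Fi22Chain1
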